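import Groth.Agent.ProperAt.Main
import Groth.Agent.ConsEngine.Fiber
import Groth.Agent.GeomFib.Consequences
import Groth.Agent.ZarConn.Components
import Groth.Agent.SteinGen.GeomConn
import Mathlib

/-!
# Flat morphisms with geometrically connected generic fibres and one proper fibre
-/

set_option autoImplicit false

universe u

open CategoryTheory CategoryTheory.Limits AlgebraicGeometry Topology TopologicalSpace

set_option backward.isDefEq.respectTransparency false
set_option backward.isDefEq.respectTransparency.types false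
set_option linter.style.haveILetI false

noncomputable section

namespace Groth.Agent.ProperAt

/-- A field extension descends properness of separated morphisms of finite type. -/
theorem isProper_of_fieldExt {K L : Type u} [Field K] [Field L] (φ : CommRingCat.of K ⟶ CommRingCat.of L)
    {Z Z' : Scheme.{u}} {b : Z' ⟶ Z} {m' : Z' ⟶ Spec (CommRingCat.of L)} {m : Z ⟶ Spec (CommRingCat.of K)} (H : IsPullback b m' m (Spec.map φ))
    [IsSeparated m] [LocallyOfFiniteType m] [IsProper m'] : IsProper m := by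
  haveI : Surjective (Spec.map φ) := ⟨fun x => ⟨IsLocalRing.closedPoint L, Subsingleton.elim (α := PrimeSpectrum K) _ _⟩⟩
  haveI : Flat (Spec.map φ) := (HasRingHomProperty.Spec_iff (P := @Flat)).mpr (by
    algebraize [φ.hom]
    exact (RingHom.flat_algebraMap_iff (R := K) (S := L)).2 inferInstance)
  haveI : UniversallyClosed m := MorphismProperty.of_isPullback_of_descendsAlong (P := @UniversallyClosed)
    (Q := (@Surjective ⊓ @Flat ⊓ @QuasiCompact : MorphismProperty Scheme.{u})) H.flip ⟨⟨‹_›, ‹_›⟩, inferInstance⟩ inferInstance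
  exact { }

/-- Over a henselian base: a clopen part of the proper closed fibre is all of it, and everything is proper,
when the fibres over the maximal points are connected. -/
theorem all_of_clopen_part {A : Type u} [CommRing A] [IsLocalRing A] [HenselianLocalRing A] {X : Scheme.{u}}
    (g : X ⟶ Spec (CommRingCat.of A)) [Flat g] [LocallyOfFinitePresentation g] (D : Pieces g)
    (hmin : ∀ t, (∀ t', t' ⤳ t → t' = t) → _root_.IsPreconnected (g ⁻¹' {t}))
    (hclF : ∀ k, FibClosed (D.q k) (D.lifts Set.univ k) (ZarConn.cpt A))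
    (C G : Set X) (hC : IsClosed C) (hG : IsOpen G) (hCG : ∀ x, g x = ZarConn.cpt A → (x ∈ C ↔ x ∈ G))
    (hne : ∃ x ∈ C, g x = ZarConn.cpt A) :
    (∀ x, g x = ZarConn.cpt A → x ∈ C) ∧ ∀ k, IsClosed (D.lifts Set.univ k) := by
  have hcl : ∀ k, IsClosed (D.i k '' (D.π k ⁻¹' (C ∩ g ⁻¹' {ZarConn.cpt A}))) := fun k => by
    obtain ⟨Ck, hCk, hCkZ⟩ := hclF k
    have : D.i k '' (D.π k ⁻¹' (C ∩ g ⁻¹' {ZarConn.cpt A})) =
        (Ck ∩ D.q k ⁻¹' {ZarConn.cpt A}) ∩ closure (D.i k '' (D.π k ⁻¹' C)) := by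
      refine Set.ext fun b => ⟨?_, ?_⟩
      · rintro ⟨w, ⟨hwC, hws⟩, rfl⟩
        exact ⟨⟨(hCkZ _ ((D.q_i k w).trans hws)).2 ⟨w, trivial, rfl⟩, (D.q_i k w).trans hws⟩,
          subset_closure ⟨w, hwC, rfl⟩⟩
      · rintro ⟨⟨hb, hbs⟩, hcl⟩
        obtain ⟨w, -, rfl⟩ := (hCkZ _ hbs).1 hb
        refine ⟨w, ⟨?_, (D.q_i k w).symm.trans hbs⟩, rfl⟩
        have h1 : w ∈ closure (D.π k ⁻¹' C) := by
          rw [(D.i k).isOpenEmbedding.isInducing.closure_eq_preimage_closure_image]
          exact hcl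
        rwa [(hC.preimage (D.π k).continuous).closure_eq] at h1
    rw [this]
    exact (hCk.inter (ZarConn.isClosed_cpt.preimage (D.q k).continuous)).inter isClosed_closure
  obtain ⟨W, hW, hWs, hWk⟩ := exists_clopen_of_closed_fibre g D.π D.i D.q D.comm D.surj C G hC hG hCG hcl
  obtain ⟨x₁, hx₁C, hx₁⟩ := hne
  have hx₁W : x₁ ∈ W := (hWs.ge ⟨hx₁C, hx₁⟩).1
  have hsurj : ∀ t, ∃ x ∈ W, g x = t := fun t => by
    obtain ⟨x, hx, rfl⟩ := (IsLocalRing.specializes_closedPoint t).mem_open
      (g.isOpenMap W hW.2) ⟨x₁, hx₁W, hx₁⟩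
    exact ⟨x, hx, rfl⟩
  have huniv : W = Set.univ := Set.eq_univ_of_forall fun x => by
    by_contra hx
    obtain ⟨x₀, hx₀, hx₀max⟩ : ∃ x₀, x₀ ⤳ x ∧ ∀ x', x' ⤳ x₀ → x' = x₀ := by
      obtain ⟨x₀, hgen⟩ := QuasiSober.sober (isIrreducible_irreducibleComponent (x := x)) isClosed_irreducibleComponent
      refine ⟨x₀, hgen.specializes mem_irreducibleComponent, fun x' hx' => ?_⟩
      refine (hx'.antisymm (hgen.specializes ?_)).eq
      have hsub : irreducibleComponent x ⊆ closure {x'} := by
        rw [← hgen.def]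
        exact closure_minimal (Set.singleton_subset_iff.2 hx'.mem_closure) isClosed_closure
      rw [← eq_irreducibleComponent isIrreducible_singleton.closure.isPreirreducible hsub]
      exact subset_closure rfl
    have hx₀W : x₀ ∉ W := fun h => hx (hx₀.mem_closed hW.1 h)
    have hmax : ∀ t', t' ⤳ g x₀ → t' = g x₀ := fun t' ht' => by
      obtain ⟨x', hx', rfl⟩ := Flat.generalizingMap g ht'
      rw [hx₀max x' hx']
    obtain ⟨x₂, hx₂W, hx₂⟩ := hsurj (g x₀)
    exact hx₀W ((hmin _ hmax).subset_isClopen hW ⟨x₂, hx₂, hx₂W⟩ (show x₀ ∈ g ⁻¹' {g x₀} from rfl))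
  refine ⟨fun x hx => (hWs.le ⟨huniv ▸ trivial, hx⟩).1, fun k => ?_⟩
  have := hWk k
  rw [huniv] at this
  exact this

/-- Data at a point with proper non-empty fibre: a henselian flat local cover over which the morphism is
proper, with connected closed fibre. -/
theorem exists_proper_cover {X S : Scheme.{u}} (f : X ⟶ S) [Flat f] [IsSeparated f] [LocallyOfFinitePresentation f]
    [QuasiCompact f]
    (hgen : ∀ η : S, (∀ η' : S, η' ⤳ η → η' = η) → Nonempty ↥(f.fiber η) →
      GeometricallyConnected (f.fiberToSpecResidueField η))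
    (s : S) [Nonempty ↥(f.fiber s)] [IsProper (f.fiberToSpecResidueField s)] :
    GeometricallyConnected (f.fiberToSpecResidueField s) ∧
      ∀ s', s' ⤳ s → Nonempty ↥(f.fiber s') ∧ IsProper (f.fiberToSpecResidueField s') := by
  obtain ⟨V, hV, hsV, -⟩ := exists_isAffineOpen_mem_and_subset (x := s) (U := (⊤ : S.Opens)) trivial
  obtain ⟨p, rfl⟩ : s ∈ Set.range hV.fromSpec := hV.range_fromSpec.ge hsV
  obtain ⟨A, _, _, _, _, ψ, hψ, hψp⟩ := SteinGen.exists_strictly_henselian_flat Γ(S, V) p.asIdeal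
  let φ : Spec (CommRingCat.of A) ⟶ Spec Γ(S, V) := Spec.map (CommRingCat.ofHom ψ)
  haveI : Flat φ := (HasRingHomProperty.Spec_iff (P := @Flat)).mpr hψ
  haveI : IsOpenImmersion hV.fromSpec := hV.isOpenImmersion_fromSpec
  let h := φ ≫ hV.fromSpec
  have hφp : φ (ZarConn.cpt A) = p := PrimeSpectrum.ext hψp
  have hs : h (ZarConn.cpt A) = hV.fromSpec p := by rw [Scheme.Hom.comp_apply, hφp]
  let g := pullback.snd f h
  have hsq : IsPullback (pullback.fst f h) g f h := IsPullback.of_hasPullback f h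
  haveI : CompactSpace ↥(pullback f h) := QuasiCompact.compactSpace_of_compactSpace g
  haveI : QuasiSeparatedSpace ↥(pullback f h) := quasiSeparatedSpace_of_quasiSeparated g
  obtain ⟨D⟩ := exists_pieces g
  have hfib : ∀ t, IsPullback (ConsEngine.fiberBC hsq t) (g.fiberToSpecResidueField t)
      (f.fiberToSpecResidueField (h t)) (Spec.map (h.residueFieldMap t)) := fun t => ConsEngine.isPullback_fiberBC hsq t
  have hmin : ∀ t, (∀ t', t' ⤳ t → t' = t) → _root_.IsPreconnected (g ⁻¹' {t}) := fun t ht => by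
    rcases (g ⁻¹' {t}).eq_empty_or_nonempty with h0 | ⟨x, hx⟩
    · rw [h0]; exact isPreconnected_empty
    haveI : Nonempty ↥(f.fiber (h t)) := ⟨ConsEngine.fiberBC hsq t ((g.fiberHomeo t).symm ⟨x, hx⟩)⟩
    have hη : ∀ η', η' ⤳ h t → η' = h t := fun η' hη' => by
      obtain ⟨t', ht', rfl⟩ := Flat.generalizingMap h hη'
      rw [ht t' ht']
    haveI := hgen _ hη inferInstance
    haveI : GeometricallyConnected (g.fiberToSpecResidueField t) := MorphismProperty.of_isPullback (hfib t) inferInstance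
    haveI := GeometricallyConnected.connectedSpace_of_subsingleton (g.fiberToSpecResidueField t)
    rw [← g.range_fiberι t]
    exact isPreconnected_range (g.fiberι t).continuous
  have hnx : ∃ x, g x = ZarConn.cpt A := by
    obtain ⟨z⟩ := ‹Nonempty ↥(f.fiber (hV.fromSpec p))›
    obtain ⟨x, -, hx⟩ := exists_point_of_isPullback hsq (f.fiberι _ z) (ZarConn.cpt A) (by
      rw [hs]
      exact (f.range_fiberι _).le ⟨z, rfl⟩)
    exact ⟨x, hx⟩
  haveI : IsProper (g.fiberToSpecResidueField (ZarConn.cpt A)) := by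
    have key : ∀ s', h (ZarConn.cpt A) = s' → IsProper (f.fiberToSpecResidueField s') →
        IsProper (g.fiberToSpecResidueField (ZarConn.cpt A)) := by
      rintro s' rfl hp
      exact MorphismProperty.of_isPullback (hfib _) hp
    exact key _ hs inferInstance
  have hclF : ∀ k, FibClosed (D.q k) (D.lifts Set.univ k) (ZarConn.cpt A) := fun k => by
    haveI : IsProper ((⊤ : (g.fiber (ZarConn.cpt A)).Opens).ι ≫
        pullback.snd g ((Spec (CommRingCat.of A)).fromSpecResidueField (ZarConn.cpt A))) :=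
      (MorphismProperty.cancel_left_of_respectsIso @IsProper (Scheme.topIso _).hom _).2
        (inferInstanceAs (IsProper (g.fiberToSpecResidueField (ZarConn.cpt A))))
    exact D.fibClosed_of_isProper (IsPullback.of_hasPullback g _) (Scheme.range_fromSpecResidueField _) Set.univ ⊤
      (Set.eq_univ_of_forall fun _ => trivial).symm k
  obtain ⟨-, hlifts⟩ := all_of_clopen_part g D hmin hclF Set.univ Set.univ isClosed_univ isOpen_univ
    (fun _ _ => Iff.rfl) (hnx.imp fun x hx => ⟨trivial, hx⟩)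
  haveI : IsProper g := by
    have := D.isProper_comp (𝟙 _) (fun k => by
      rw [show Set.range (𝟙 (pullback f h) : _ ⟶ _) = Set.univ from Set.range_id]
      exact hlifts k)
    rwa [Category.id_comp] at this
  have hconn : ConnectedSpace ↥(g.base ⁻¹' {ZarConn.cpt A}) := by
    let F := g.base ⁻¹' {ZarConn.cpt A}
    have hFc : IsClosed F := ZarConn.isClosed_cpt.preimage g.continuous
    rw [connectedSpace_iff_clopen]
    refine ⟨let ⟨x, hx⟩ := hnx; ⟨⟨x, hx⟩⟩, fun C₀ hC₀ => ?_⟩
    rcases C₀.eq_empty_or_nonempty with h0 | ⟨z, hz⟩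
    · exact Or.inl h0
    refine Or.inr (Set.eq_univ_of_forall fun w => ?_)
    have hd : ∀ x (hx : x ∈ F), x ∈ Subtype.val '' C₀ ↔ x ∈ (Subtype.val '' C₀ᶜ)ᶜ := fun x hx => by
      refine ⟨?_, fun h => ⟨⟨x, hx⟩, by_contra fun h' => h ⟨⟨x, hx⟩, h', rfl⟩, rfl⟩⟩
      rintro ⟨a, ha, rfl⟩ ⟨b, hb, hab⟩
      exact hb (Subtype.ext hab ▸ ha)
    obtain ⟨hall, -⟩ := all_of_clopen_part g D hmin hclF (Subtype.val '' C₀) (Subtype.val '' C₀ᶜ)ᶜ
      (hFc.isClosedEmbedding_subtypeVal.isClosedMap _ hC₀.1)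
      (hFc.isClosedEmbedding_subtypeVal.isClosedMap _ hC₀.compl.1).isOpen_compl hd
      ⟨z, ⟨z, hz, rfl⟩, z.2⟩
    obtain ⟨w', hw', hww⟩ := hall w.1 w.2
    exact Subtype.ext hww ▸ hw'
  refine ⟨(GeomFib.geometricallyConnected_fiber_iff f _).2 ?_, fun s' hs' => ?_⟩
  · rw [← hs, ← (GeomFib.nGeom_baseChange hsq (ZarConn.cpt A)).2, ZarConn.nGeom_closed_sep g,
      ← GeomFib.connectedSpace_iff_card]
    exact hconn
  · obtain ⟨t, -, rfl⟩ := Flat.generalizingMap h (show s' ⤳ h (ZarConn.cpt A) by rwa [hs])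
    obtain ⟨x₁, hx₁⟩ := hnx
    obtain ⟨x, rfl⟩ : ∃ x, g x = t := by
      obtain ⟨x, -, hx⟩ := (IsLocalRing.specializes_closedPoint t).mem_open
        (g.isOpenMap _ isOpen_univ) ⟨x₁, trivial, hx₁⟩
      exact ⟨x, hx⟩
    refine ⟨⟨ConsEngine.fiberBC hsq _ (g.asFiber x)⟩, ?_⟩
    haveI : IsProper (g.fiberToSpecResidueField (g x)) := MorphismProperty.pullback_snd _ _ inferInstance
    haveI : IsSeparated (f.fiberToSpecResidueField (h (g x))) := MorphismProperty.pullback_snd _ _ inferInstance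
    haveI : LocallyOfFiniteType (f.fiberToSpecResidueField (h (g x))) := MorphismProperty.pullback_snd _ _ inferInstance
    exact isProper_of_fieldExt _ (hfib (g x))

/-- Properness near a proper non-empty fibre. -/
theorem exists_proper_nhd_of_flat {X S : Scheme.{u}} (f : X ⟶ S) [Flat f] [IsSeparated f]
    [LocallyOfFinitePresentation f] [QuasiCompact f]
    (hgen : ∀ η : S, (∀ η' : S, η' ⤳ η → η' = η) → Nonempty ↥(f.fiber η) →
      GeometricallyConnected (f.fiberToSpecResidueField η))
    (s : S) [Nonempty ↥(f.fiber s)] [IsProper (f.fiberToSpecResidueField s)] :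
    ∃ U : S.Opens, s ∈ U ∧ IsProper (f ∣_ U) := by
  obtain ⟨-, hgenz⟩ := exists_proper_cover f hgen s
  have hpre : ∀ y', y' ⤳ s → GeomPre f Set.univ y' := fun y' hy' K _ X' e f' v hsq hv => by
    obtain ⟨hne, hp⟩ := hgenz y' hy'
    haveI := hne; haveI := hp
    obtain ⟨hc, -⟩ := exists_proper_cover f hgen y'
    subst hv
    haveI := hc
    let hsq' := ConsEngine.isPullback_fiberBC hsq (IsLocalRing.closedPoint K)
    haveI : GeometricallyConnected (f'.fiberToSpecResidueField (IsLocalRing.closedPoint K)) :=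
      MorphismProperty.of_isPullback hsq' inferInstance
    haveI := GeometricallyConnected.connectedSpace_of_subsingleton (f'.fiberToSpecResidueField (IsLocalRing.closedPoint K))
    rw [Set.preimage_univ]
    have h1 : Set.range (f'.fiberι (IsLocalRing.closedPoint K)) = Set.univ := by
      rw [f'.range_fiberι]
      exact Set.eq_univ_of_forall fun x => Subsingleton.elim (α := PrimeSpectrum K) _ _
    rw [← h1]
    exact isPreconnected_range (f'.fiberι _).continuous
  have hsub : Submersive f Set.univ := by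
    rintro X' Y' e f' h hsq E hE ⟨W, hW, hWe⟩
    rw [Set.preimage_univ, Set.inter_univ, Set.inter_univ] at hWe
    haveI : Flat f' := MorphismProperty.of_isPullback hsq inferInstance
    haveI : LocallyOfFinitePresentation f' := MorphismProperty.of_isPullback hsq inferInstance
    refine ⟨E, ?_, Set.inter_eq_left.2 hE⟩
    have : E = f' '' W := by
      rw [hWe]
      refine Set.Subset.antisymm (fun t ht => ?_) (Set.image_preimage_subset _ _)
      obtain ⟨z, -, hz⟩ := hE ht
      obtain ⟨x, -, hx⟩ := exists_point_of_isPullback hsq z t hz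
      exact ⟨x, show f' x ∈ E by rw [hx]; exact ht, hx⟩
    rw [this]
    exact f'.isOpenMap W hW
  have hu : IsOpen ((f.fiberι s).base ⁻¹' (Set.univ : Set X)) := by rw [Set.preimage_univ]; exact isOpen_univ
  have htop : (⟨(f.fiberι s).base ⁻¹' (Set.univ : Set X), hu⟩ : (f.fiber s).Opens) = ⊤ :=
    TopologicalSpace.Opens.ext (Set.eq_univ_of_forall fun _ => trivial)
  obtain ⟨U, hyU, hC, hP⟩ := exists_proper_nhd f Set.univ IsLocallyConstructible.univ s
    (fun _ _ => ⟨Set.univ, isClosed_univ, fun _ _ => Iff.rfl⟩)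
    (fun _ _ => ⟨Set.univ, isOpen_univ, fun _ _ => Iff.rfl⟩)
    (fun y' hy' => by
      obtain ⟨⟨z⟩, -⟩ := hgenz y' hy'
      exact ⟨f.fiberι y' z, trivial, (f.range_fiberι y').le ⟨z, rfl⟩⟩)
    hpre hsub hu (by
      rw [htop]
      exact (MorphismProperty.cancel_left_of_respectsIso @IsProper (Scheme.topIso _).hom _).2 inferInstance)
  refine ⟨U, hyU, ?_⟩
  let j := (Scheme.IdealSheafData.vanishingIdeal (X := (f ⁻¹ᵁ U : X.Opens).toScheme) (⟨(f ⁻¹ᵁ U).ι.base ⁻¹' Set.univ, hC⟩ :
    TopologicalSpace.Closeds ↥(f ⁻¹ᵁ U))).subschemeι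
  haveI : Surjective j := ⟨fun x => by
    have : x ∈ Set.range j := by
      rw [Scheme.IdealSheafData.range_subschemeι, Scheme.IdealSheafData.coe_support_vanishingIdeal]
      trivial
    exact this⟩
  haveI : IsProper (j ≫ (f ∣_ U)) := hP
  haveI : UniversallyClosed (f ∣_ U) := UniversallyClosed.of_comp_surjective j _
  exact { }

end Groth.Agent.ProperAt
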