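import Groth.Agent.ConsTop.Maps

/-!
# Closures of images of subsets closed in the constructible topology
-/

set_option autoImplicit false

universe u

open Topology TopologicalSpace AlgebraicGeometry CategoryTheory

namespace Groth.Agent.ProperAt

variable {Q : Type u} [TopologicalSpace Q] [CompactSpace Q] [QuasiSeparatedSpace Q] [QuasiSober Q]
  [PrespectralSpace Q] {Y : Type u} [TopologicalSpace Y] [PrespectralSpace Y]

/-- A point in the closure of the image of a set closed for the constructible topology is a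
specialization of the image of one of its points. -/
theorem exists_specializes_of_mem_closure (q : Q → Y) (hq : Continuous q)
    (hqc : ∀ U : Set Y, IsOpen U → IsCompact U → IsCompact (q ⁻¹' U))
    {E : Set Q} (hE : IsClosed[constructibleTopology Q] E) {y : Y} (hy : y ∈ closure (q '' E)) :
    ∃ e ∈ E, q e ⤳ y := by
  let 𝒲 := {W : Set Y // IsOpen W ∧ IsCompact W ∧ y ∈ W}
  have hcomp : @IsCompact Q (constructibleTopology Q) E :=
    @IsCompact.of_isClosed_subset Q (constructibleTopology Q) Set.univ E
      (ConsTop.isCompact_cons isOpen_univ isCompact_univ) hE (Set.subset_univ _)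
  have hcl : ∀ W : 𝒲, IsClosed[constructibleTopology Q] (q ⁻¹' W.1) := fun W ↦
    (@isOpen_compl_iff Q _ (constructibleTopology Q)).mp
      (ConsTop.isOpen_compl_of_isCompact (W.2.1.preimage hq) (hqc W.1 W.2.1 W.2.2.1))
  have hfin : ∀ u : Finset 𝒲, (E ∩ ⋂ W ∈ u, q ⁻¹' W.1).Nonempty := by
    intro u
    obtain ⟨_, hmem, e, he, rfl⟩ := mem_closure_iff.mp hy (⋂ W ∈ u, W.1)
      (isOpen_biInter_finset fun W _ ↦ W.2.1) (Set.mem_iInter₂.mpr fun W _ ↦ W.2.2.2)
    exact ⟨e, he, Set.mem_iInter₂.mpr fun W hW ↦ Set.mem_iInter₂.mp hmem W hW⟩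
  obtain ⟨e, he, heW⟩ := @IsCompact.inter_iInter_nonempty Q (constructibleTopology Q) E _ hcomp
    (fun W : 𝒲 ↦ q ⁻¹' W.1) hcl hfin
  refine ⟨e, he, specializes_iff_forall_open.mpr fun s hs hys ↦ ?_⟩
  obtain ⟨W, ⟨hW, hWc⟩, hyW, hWs⟩ :=
    PrespectralSpace.isTopologicalBasis.exists_subset_of_mem_open hys hs
  exact hWs (Set.mem_iInter.mp heW ⟨W, hW, hWc, hyW⟩)

/-- The closure of a set closed for the constructible topology consists of the specializations of its
points. -/
theorem exists_specializes_of_mem_closure_self {E : Set Q} (hE : IsClosed[constructibleTopology Q] E)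
    {y : Q} (hy : y ∈ closure E) : ∃ e ∈ E, e ⤳ y :=
  exists_specializes_of_mem_closure id continuous_id (fun _ _ h ↦ h) hE (by rwa [Set.image_id])

/-- Closed subsets are closed for the constructible topology. -/
theorem isClosed_cons {E : Set Q} (hE : IsClosed E) : IsClosed[constructibleTopology Q] E :=
  (@isOpen_compl_iff Q _ (constructibleTopology Q)).mp (ConsTop.isOpen_cons_of_isOpen hE.isOpen_compl)

/-- The points over a given point form a set closed for the constructible topology. -/
theorem isClosed_cons_fibre [T0Space Y] (q : Q → Y) (hq : Continuous q)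
    (hqc : ∀ U : Set Y, IsOpen U → IsCompact U → IsCompact (q ⁻¹' U)) (y : Y) :
    IsClosed[constructibleTopology Q] (q ⁻¹' {y}) := by
  have h : q ⁻¹' {y} = q ⁻¹' closure {y} ∩ ⋂ W : {W : Set Y // IsOpen W ∧ IsCompact W ∧ y ∈ W}, q ⁻¹' W.1 := by
    refine Set.Subset.antisymm (fun e he ↦ ?_) fun e ⟨he, he'⟩ ↦ ?_
    · obtain rfl : q e = y := he
      exact ⟨subset_closure rfl, Set.mem_iInter.mpr fun W ↦ W.2.2.2⟩
    · have h1 : q e ⤳ y := specializes_iff_forall_open.mpr fun s hs hys ↦ by
        obtain ⟨W, ⟨hW, hWc⟩, hyW, hWs⟩ :=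
          PrespectralSpace.isTopologicalBasis.exists_subset_of_mem_open hys hs
        exact hWs (Set.mem_iInter.mp he' ⟨W, hW, hWc, hyW⟩)
      exact (h1.antisymm (specializes_iff_mem_closure.mpr he)).eq
  rw [h]
  refine @IsClosed.inter Q _ _ (constructibleTopology Q) (isClosed_cons (isClosed_closure.preimage hq)) ?_
  exact @isClosed_iInter Q _ (constructibleTopology Q) _ fun W ↦
    (@isOpen_compl_iff Q _ (constructibleTopology Q)).mp
      (ConsTop.isOpen_compl_of_isCompact (W.2.1.preimage hq) (hqc W.1 W.2.1 W.2.2.1))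

end Groth.Agent.ProperAt
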