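import Groth.Agent.ProperAt.Local
import Groth.Agent.LocNoethTop.Basic
import Groth.Agent.GeomFib.Consequences

/-!
# Connected components of fibres as pieces
-/

set_option autoImplicit false

universe u

open CategoryTheory CategoryTheory.Limits AlgebraicGeometry TopologicalSpace

set_option backward.isDefEq.respectTransparency false
set_option linter.style.haveILetI false

noncomputable section

namespace Groth.Agent.ProperAt

variable {X Y : Scheme.{u}} (f : X ⟶ Y)

theorem fibClosed_component {Z : Set X} {y : Y} {z : X}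
    (h : Z ∩ f ⁻¹' {y} = connectedComponentIn (f ⁻¹' {y}) z) (hz : f z = y) : FibClosed f Z y := by
  let C := connectedComponentIn (f ⁻¹' {y}) z
  refine ⟨closure C, isClosed_closure, fun x hx ↦ ⟨fun hxC ↦ ?_, fun hxZ ↦ subset_closure (h.le ⟨hxZ, hx⟩)⟩⟩
  have hp : _root_.IsPreconnected (insert x C) :=
    (isPreconnected_connectedComponentIn).subset_closure (Set.subset_insert _ _)
      (Set.insert_subset hxC subset_closure)
  have hsub : insert x C ⊆ C :=
    hp.subset_connectedComponentIn (Set.mem_insert_of_mem _ (mem_connectedComponentIn hz))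
      (Set.insert_subset hx (connectedComponentIn_subset _ _))
  exact (h.ge (hsub (Set.mem_insert x C))).1

theorem fibOpen_component [LocallyOfFiniteType f] [QuasiCompact f] {Z : Set X} {y : Y} {z : X}
    (h : Z ∩ f ⁻¹' {y} = connectedComponentIn (f ⁻¹' {y}) z) (hz : f z = y) :
    IsOpen (f.fiberι y ⁻¹' Z) ∧ FibOpen f Z y := by
  have hmem : ∀ t, f (f.fiberι y t) = y := fun t ↦ (f.range_fiberι y).le ⟨t, rfl⟩
  obtain ⟨a, rfl⟩ := (f.range_fiberι y).ge hz
  haveI : LocallyOfFiniteType (f.fiberToSpecResidueField y) := MorphismProperty.pullback_snd _ _ inferInstance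
  haveI : QuasiCompact (f.fiberToSpecResidueField y) := MorphismProperty.pullback_snd _ _ inferInstance
  haveI : IsLocallyNoetherian (f.fiber y) :=
    LocallyOfFiniteType.isLocallyNoetherian (f.fiberToSpecResidueField y)
  haveI : CompactSpace (f.fiber y) := QuasiCompact.compactSpace_of_compactSpace (f.fiberToSpecResidueField y)
  haveI : IsNoetherian (f.fiber y) := {}
  have hι := (f.fiberι y).isEmbedding.isInducing
  have heq : f.fiberι y ⁻¹' Z = connectedComponent a := by
    have hC : f.fiberι y '' connectedComponent a ⊆ connectedComponentIn (f ⁻¹' {y}) (f.fiberι y a) :=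
      (hι.isPreconnected_image.mpr isPreconnected_connectedComponent).subset_connectedComponentIn
        ⟨a, mem_connectedComponent, rfl⟩ (by rintro _ ⟨t, -, rfl⟩; exact hmem t)
    refine Set.Subset.antisymm ?_ fun t ht ↦ (h.ge (hC ⟨t, ht, rfl⟩)).1
    have hp : _root_.IsPreconnected (f.fiberι y ⁻¹' connectedComponentIn (f ⁻¹' {y}) (f.fiberι y a)) := by
      rw [← hι.isPreconnected_image, Set.image_preimage_eq_of_subset]
      · exact isPreconnected_connectedComponentIn
      · exact (connectedComponentIn_subset _ _).trans (f.range_fiberι y).ge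
    exact fun t ht ↦ hp.subset_connectedComponent (mem_connectedComponentIn (hmem a)) (h.le ⟨ht, hmem t⟩)
  have hop : IsOpen (f.fiberι y ⁻¹' Z) := heq ▸ LocNoethTop.isOpen_connectedComponent_of_noetherian a
  obtain ⟨G, hG, hGe⟩ := hι.isOpen_iff.mp hop
  refine ⟨hop, G, hG, fun x hx ↦ ?_⟩
  obtain ⟨t, rfl⟩ := (f.range_fiberι y).ge hx
  exact Set.ext_iff.mp hGe t

/-- Preconnectedness in field valued fibres may be tested after a field extension. -/
theorem isPreconnected_of_extension {Z : Set X} {K L : Type u} [Field K] [Field L] [Algebra K L] {X' : Scheme.{u}}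
    {e : X' ⟶ X} {f' : X' ⟶ Spec (CommRingCat.of K)} {v : Spec (CommRingCat.of K) ⟶ Y} (h : IsPullback e f' f v)
    (hL : _root_.IsPreconnected
      ((pullback.fst f (Spec.map (CommRingCat.ofHom (algebraMap K L)) ≫ v)) ⁻¹' Z)) :
    _root_.IsPreconnected (e ⁻¹' Z) := by
  let w := Spec.map (CommRingCat.ofHom (algebraMap K L))
  haveI : Surjective w := GeomConn.surjective_Spec_field
  let m : pullback f (w ≫ v) ⟶ X' := h.lift (pullback.fst _ _) (pullback.snd _ _ ≫ w)
    (by rw [pullback.condition, Category.assoc])
  have hm : IsPullback m (pullback.snd f (w ≫ v)) f' w :=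
    IsPullback.of_right (by rw [h.lift_fst]; exact IsPullback.of_hasPullback _ _) (h.lift_snd _ _ _) h
  haveI : Surjective m := MorphismProperty.of_isPullback hm.flip ‹Surjective w›
  have h2 := hL.image m m.continuous.continuousOn
  have heq : pullback.fst f (w ≫ v) ⁻¹' Z = m ⁻¹' (e ⁻¹' Z) := by
    refine Set.ext fun x ↦ ?_
    rw [Set.mem_preimage, Set.mem_preimage, Set.mem_preimage, ← Scheme.Hom.comp_apply m e, h.lift_fst]
  rwa [heq, Set.image_preimage_eq _ m.surjective] at h2

end Groth.Agent.ProperAt
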