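import Groth.Agent.SteinGen.GeomConn

/-!
# Separating a proper open piece of the closed fibre over a henselian local base
-/

set_option autoImplicit false

universe u

open CategoryTheory CategoryTheory.Limits AlgebraicGeometry IsLocalRing TopologicalSpace

set_option backward.isDefEq.respectTransparency false
set_option linter.style.haveILetI false

noncomputable section

namespace Groth.Agent.ProperAt

/-- A part of the closed fibre which is open and closed in it and whose inverse image is closed in a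
compactified cover extends to an open and closed part of the whole space, still closed upstairs. -/
theorem exists_clopen_of_closed_fibre {A : Type u} [CommRing A] [IsLocalRing A] [HenselianLocalRing A]
    {X : Scheme.{u}} (f : X ⟶ Spec (CommRingCat.of A)) {ι : Type u} [Finite ι] {P Q : ι → Scheme.{u}}
    (π : ∀ k, P k ⟶ X) (i : ∀ k, P k ⟶ Q k) (q : ∀ k, Q k ⟶ Spec (CommRingCat.of A))
    [∀ k, IsProper (π k)] [∀ k, IsOpenImmersion (i k)] [∀ k, IsProper (q k)]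
    (hcomm : ∀ k, i k ≫ q k = π k ≫ f) (hsurj : ∀ x, ∃ k w, π k w = x)
    (C G : Set X) (hC : IsClosed C) (hG : IsOpen G) (hCG : ∀ x, f x = ZarConn.cpt A → (x ∈ C ↔ x ∈ G))
    (hcl : ∀ k, IsClosed (i k '' (π k ⁻¹' (C ∩ f ⁻¹' {ZarConn.cpt A})))) :
    ∃ W : Set X, IsClopen W ∧ W ∩ f ⁻¹' {ZarConn.cpt A} = C ∩ f ⁻¹' {ZarConn.cpt A} ∧
      ∀ k, IsClosed (i k '' (π k ⁻¹' W)) := by
  haveI : HenselianRing A (maximalIdeal A) := inferInstance
  let s := ZarConn.cpt A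
  have hmem : ∀ t : ↥(Spec (CommRingCat.of A)), maximalIdeal A ≤ t.asIdeal ↔ t = s := fun t ↦
    ⟨fun h ↦ PrimeSpectrum.ext ((maximalIdeal.isMaximal A).eq_of_le t.isPrime.ne_top h).symm,
      fun h ↦ (congrArg PrimeSpectrum.asIdeal h).ge⟩
  have hspec : ∀ t : ↥(Spec (CommRingCat.of A)), t ⤳ s := fun t ↦ IsLocalRing.specializes_closedPoint t
  have hcw : ∀ k (w : P k), q k (i k w) = f (π k w) := fun k w ↦ by
    rw [← Scheme.Hom.comp_apply, hcomm, Scheme.Hom.comp_apply]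
  have key : ∀ k, ∃ V : Set (Q k), IsClopen V ∧ V ⊆ Set.range (i k) ∧
      ∀ w, f (π k w) = s → (i k w ∈ V ↔ π k w ∈ C) := by
    intro k
    let C₁ := i k '' (π k ⁻¹' (C ∩ f ⁻¹' {s}))
    let C₂ := q k ⁻¹' {s} ∩ (i k '' (π k ⁻¹' G))ᶜ
    have h2 : IsClosed C₂ := (ZarConn.isClosed_cpt.preimage (q k).continuous).inter
      ((i k).isOpenEmbedding.isOpenMap _ (hG.preimage (π k).continuous)).isClosed_compl
    have hd : Disjoint C₁ C₂ := by
      rw [Set.disjoint_left]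
      rintro _ ⟨w, ⟨hwC, hws⟩, rfl⟩ ⟨-, hn⟩
      exact hn ⟨w, (hCG _ hws).mp hwC, rfl⟩
    have hF : ∀ x : Q k, maximalIdeal A ≤ (q k x).asIdeal ↔ x ∈ C₁ ∪ C₂ := by
      intro x
      rw [hmem]
      refine ⟨fun hx ↦ ?_, ?_⟩
      · by_cases hxG : x ∈ i k '' (π k ⁻¹' G)
        · obtain ⟨w, hw, rfl⟩ := hxG
          have hws : f (π k w) = s := (hcw k w).symm.trans hx
          exact Or.inl ⟨w, ⟨(hCG _ hws).mpr hw, hws⟩, rfl⟩
        · exact Or.inr ⟨hx, hxG⟩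
      · rintro (⟨w, ⟨-, hws⟩, rfl⟩ | ⟨hx, -⟩)
        · exact (hcw k w).trans hws
        · exact hx
    obtain ⟨V, hV, hV₁, hV₂⟩ :=
      ZarConn.exists_clopen_extension_proper (maximalIdeal A) (q k) C₁ C₂ (hcl k) h2 hd hF
    have hVF : ∀ x ∈ V, q k x = s → x ∈ C₁ := fun x hx hxs ↦
      ((hF x).mp ((hmem _).mpr hxs)).resolve_right fun h ↦ hV₂.notMem_of_mem_left h hx
    refine ⟨V, hV, fun x hx ↦ ?_, fun w hw ↦ ⟨fun h ↦ ?_, fun h ↦ hV₁ ⟨w, ⟨h, hw⟩, rfl⟩⟩⟩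
    · by_contra hxi
      have hB : IsClosed (V ∩ (Set.range (i k))ᶜ) :=
        hV.1.inter (i k).isOpenEmbedding.isOpen_range.isClosed_compl
      obtain ⟨b, ⟨hbV, hbi⟩, hbs⟩ :=
        (hspec (q k x)).mem_closed ((q k).isClosedMap _ hB) ⟨x, ⟨hx, hxi⟩, rfl⟩
      obtain ⟨w, -, rfl⟩ := hVF b hbV hbs
      exact hbi ⟨w, rfl⟩
    · obtain ⟨w', ⟨hw', -⟩, hww⟩ := hVF _ h ((hcw k w).trans hw)
      rwa [← (i k).isOpenEmbedding.injective hww]
  choose V hV hVr hVs using key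
  let W₁ : Set X := ⋃ k, π k '' (i k ⁻¹' V k)
  let W₂ : Set X := ⋃ k, π k '' (i k ⁻¹' (V k)ᶜ)
  have hcl₁ : IsClosed W₁ :=
    isClosed_iUnion_of_finite fun k ↦ (π k).isClosedMap _ ((hV k).1.preimage (i k).continuous)
  have hcl₂ : IsClosed W₂ :=
    isClosed_iUnion_of_finite fun k ↦ (π k).isClosedMap _ ((hV k).compl.1.preimage (i k).continuous)
  have hd : Disjoint W₁ W₂ := by
    rw [Set.disjoint_left]
    rintro x hx₁ hx₂
    obtain ⟨k, w, hw, rfl⟩ := Set.mem_iUnion.mp hx₁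
    obtain ⟨k', r, hr, hrw⟩ := Set.mem_iUnion.mp hx₂
    obtain ⟨b, hb, hbs⟩ : s ∈ q k '' closure {i k w} :=
      (hspec (q k (i k w))).mem_closed ((q k).isClosedMap _ isClosed_closure) ⟨_, subset_closure rfl, rfl⟩
    have hsp : i k w ⤳ b := specializes_iff_mem_closure.mpr hb
    have hbV : b ∈ V k := hsp.mem_closed (hV k).1 hw
    obtain ⟨w₀, rfl⟩ := hVr k hbV
    have hw₀s : f (π k w₀) = s := (hcw k w₀).symm.trans hbs
    have hsp₀ : π k' r ⤳ π k w₀ := by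
      rw [hrw]
      exact ((i k).isOpenEmbedding.isInducing.specializes_iff.mp hsp).map (π k).continuous
    obtain ⟨r₀, hr₀, hr₀w⟩ :=
      hsp₀.mem_closed ((π k').isClosedMap (closure {r}) isClosed_closure)
        ⟨r, subset_closure (Set.mem_singleton r), rfl⟩
    have hC₀ : π k' r₀ ∈ C := by
      rw [hr₀w]
      exact (hVs k w₀ hw₀s).mp hbV
    have hin : i k' r₀ ∈ V k' := (hVs k' r₀ (by rw [hr₀w]; exact hw₀s)).mpr hC₀
    exact hr (((specializes_iff_mem_closure.mpr hr₀).map (i k').continuous).mem_open (hV k').2 hin)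
  have hcov : ∀ x, x ∈ W₁ ∨ x ∈ W₂ := fun x ↦ by
    obtain ⟨k, w, rfl⟩ := hsurj x
    by_cases hw : i k w ∈ V k
    · exact Or.inl (Set.mem_iUnion.mpr ⟨k, w, hw, rfl⟩)
    · exact Or.inr (Set.mem_iUnion.mpr ⟨k, w, hw, rfl⟩)
  have hcompl : W₁ = W₂ᶜ :=
    Set.ext fun x ↦ ⟨fun h h' ↦ hd.notMem_of_mem_left h h', fun h ↦ (hcov x).resolve_right h⟩
  refine ⟨W₁, ⟨hcl₁, hcompl ▸ hcl₂.isOpen_compl⟩, Set.ext fun x ↦ ?_, fun k ↦ ?_⟩
  · refine ⟨?_, ?_⟩
    · rintro ⟨hx, hxs⟩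
      obtain ⟨k, w, hw, rfl⟩ := Set.mem_iUnion.mp hx
      exact ⟨(hVs k w hxs).mp hw, hxs⟩
    · rintro ⟨hx, hxs⟩
      obtain ⟨k, w, rfl⟩ := hsurj x
      exact ⟨Set.mem_iUnion.mpr ⟨k, w, (hVs k w hxs).mpr hx, rfl⟩, hxs⟩
  · convert (hV k).1 using 1
    refine Set.ext fun b ↦ ⟨?_, fun hb ↦ ?_⟩
    · rintro ⟨w, hw, rfl⟩
      by_contra h
      exact hd.notMem_of_mem_left hw (Set.mem_iUnion.mpr ⟨k, w, h, rfl⟩)
    · obtain ⟨w, rfl⟩ := hVr k hb
      exact ⟨w, Set.mem_iUnion.mpr ⟨k, w, hb, rfl⟩, rfl⟩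

end Groth.Agent.ProperAt
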