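import Groth.Agent.ProperAt.Fibres
import Groth.Prelude.Def_FDesc

/-!
# Translating the hypotheses
-/

set_option autoImplicit false

universe u

open CategoryTheory CategoryTheory.Limits AlgebraicGeometry

set_option backward.isDefEq.respectTransparency false
set_option linter.style.haveILetI false

noncomputable section

namespace Groth.Agent.ProperAt

variable {X Y : Scheme.{u}} (f : X ⟶ Y)

theorem geomPre_of_bc {Z : Set X} {y : Y}
    (h : ∀ (K : Type u) [Field K] [Algebra (IsLocalRing.ResidueField (Y.presheaf.stalk y)) K],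
      _root_.IsPreconnected ((FBase.bcπ (f.fiberToSpecResidueField y) K ≫ f.fiberι y).base ⁻¹' Z)) :
    GeomPre f Z y := by
  intro K _ X' e f' v hsq hv
  subst hv
  let φ := Y.descResidueField (Scheme.stalkClosedPointTo v)
  have hv' : Spec.map φ ≫ Y.fromSpecResidueField (v (IsLocalRing.closedPoint K)) = v :=
    Scheme.descResidueField_stalkClosedPointTo_fromSpecResidueField K Y v
  letI : Algebra (IsLocalRing.ResidueField (Y.presheaf.stalk (v (IsLocalRing.closedPoint K)))) K := φ.hom.toAlgebra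
  let y := v (IsLocalRing.closedPoint K)
  let w := Spec.map φ
  have hbc : IsPullback (pullback.fst (f.fiberToSpecResidueField y) w ≫ f.fiberι y)
      (pullback.snd (f.fiberToSpecResidueField y) w) f v := by
    have := (IsPullback.of_hasPullback (f.fiberToSpecResidueField y) w).paste_horiz
      (show IsPullback (f.fiberι y) (f.fiberToSpecResidueField y) f (Y.fromSpecResidueField y) from
        IsPullback.of_hasPullback _ _)
    rwa [show w ≫ Y.fromSpecResidueField y = v from hv'] at this
  have h1 : _root_.IsPreconnected ((pullback.fst (f.fiberToSpecResidueField y) w ≫ f.fiberι y) ⁻¹' Z) := h K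
  let ψ := hbc.isoIsPullback _ _ hsq
  have hψ : ψ.hom ≫ e = pullback.fst (f.fiberToSpecResidueField y) w ≫ f.fiberι y :=
    hbc.isoIsPullback_hom_fst _ _ hsq
  have h2 := h1.image ψ.hom ψ.hom.continuous.continuousOn
  have heq : (pullback.fst (f.fiberToSpecResidueField y) w ≫ f.fiberι y) ⁻¹' Z = ψ.hom ⁻¹' (e ⁻¹' Z) := by
    refine Set.ext fun x ↦ ?_
    rw [Set.mem_preimage, Set.mem_preimage, Set.mem_preimage, ← Scheme.Hom.comp_apply ψ.hom e, hψ]
  rwa [heq, Set.image_preimage_eq _ ψ.hom.surjective] at h2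

theorem submersive_of_pullback {Z : Set X}
    (h3 : ∀ (Y' : Scheme.{u}) (h : Y' ⟶ Y) (E : Set Y'), E ⊆ h.base ⁻¹' (f.base '' Z) →
      (∃ W : Set ↥(pullback f h), IsOpen W ∧
        W ∩ (pullback.fst f h).base ⁻¹' Z = (pullback.snd f h).base ⁻¹' E ∩ (pullback.fst f h).base ⁻¹' Z) →
      ∃ V : Set Y', IsOpen V ∧ V ∩ h.base ⁻¹' (f.base '' Z) = E) :
    Submersive f Z := by
  rintro X' Y' e f' h hsq E hE ⟨W, hW, hWe⟩
  refine h3 Y' h E hE ⟨hsq.isoPullback.inv ⁻¹' W, hW.preimage hsq.isoPullback.inv.continuous, ?_⟩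
  refine Set.ext fun x ↦ ?_
  have h1 : pullback.fst f h x = e (hsq.isoPullback.inv x) := by
    rw [← Scheme.Hom.comp_apply, hsq.isoPullback_inv_fst]
  have h2 : pullback.snd f h x = f' (hsq.isoPullback.inv x) := by
    rw [← Scheme.Hom.comp_apply, hsq.isoPullback_inv_snd]
  show hsq.isoPullback.inv x ∈ W ∧ pullback.fst f h x ∈ Z ↔ pullback.snd f h x ∈ E ∧ pullback.fst f h x ∈ Z
  rw [h1, h2]
  exact Set.ext_iff.mp hWe _

end Groth.Agent.ProperAt
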