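import Mathlib

/-!
# Compactified covers of a morphism, their base change, and properness read off them
-/

set_option autoImplicit false

universe u

open CategoryTheory CategoryTheory.Limits AlgebraicGeometry TopologicalSpace

set_option backward.isDefEq.respectTransparency false
set_option linter.style.haveILetI false

noncomputable section

namespace Groth.Agent.ProperAt

/-- Finitely many proper maps onto `X`, each openly embedded into a scheme proper over the base. -/
structure Pieces {X Y : Scheme.{u}} (f : X ⟶ Y) where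
  ι : Type u
  finite : Finite ι
  P : ι → Scheme.{u}
  Q : ι → Scheme.{u}
  π : ∀ k, P k ⟶ X
  i : ∀ k, P k ⟶ Q k
  q : ∀ k, Q k ⟶ Y
  proper_π : ∀ k, IsProper (π k)
  openImm_i : ∀ k, IsOpenImmersion (i k)
  proper_q : ∀ k, IsProper (q k)
  comm : ∀ k, i k ≫ q k = π k ≫ f
  surj : ∀ x : X, ∃ k w, π k w = x

attribute [instance] Pieces.finite Pieces.proper_π Pieces.openImm_i Pieces.proper_q

/-- The image in the compactification of the inverse image of a subset. -/
def Pieces.lifts {X Y : Scheme.{u}} {f : X ⟶ Y} (D : Pieces f) (Z : Set X) (k : D.ι) : Set (D.Q k) :=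
  D.i k '' (D.π k ⁻¹' Z)

theorem Pieces.q_i {X Y : Scheme.{u}} {f : X ⟶ Y} (D : Pieces f) (k : D.ι) (w : D.P k) :
    D.q k (D.i k w) = f (D.π k w) := by
  rw [← Scheme.Hom.comp_apply, D.comm, Scheme.Hom.comp_apply]

theorem exists_point_of_isPullback {P X Y S : Scheme.{u}} {a : P ⟶ X} {b : P ⟶ Y} {f : X ⟶ S}
    {g : Y ⟶ S} (h : IsPullback a b f g) (x : X) (y : Y) (hxy : f x = g y) :
    ∃ z : P, a z = x ∧ b z = y := by
  obtain ⟨z, hz₁, hz₂⟩ := Scheme.Pullback.exists_preimage_pullback x y hxy
  refine ⟨h.isoPullback.inv z, ?_, ?_⟩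
  · rw [← Scheme.Hom.comp_apply, h.isoPullback_inv_fst, hz₁]
  · rw [← Scheme.Hom.comp_apply, h.isoPullback_inv_snd, hz₂]

variable {X Y X' Y' : Scheme.{u}} {f : X ⟶ Y} {e : X' ⟶ X} {f' : X' ⟶ Y'} {h : Y' ⟶ Y}

theorem isPullback_lift (D : Pieces f) (sq : IsPullback e f' f h) (k : D.ι) :
    IsPullback (pullback.fst (D.π k) e)
      (pullback.lift (pullback.fst (D.π k) e ≫ D.i k) (pullback.snd (D.π k) e ≫ f') (by
        rw [Category.assoc, D.comm, pullback.condition_assoc, sq.w, Category.assoc]) :
        pullback (D.π k) e ⟶ pullback (D.q k) h)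
      (D.i k) (pullback.fst (D.q k) h) := by
  refine IsPullback.of_bot ?_ (pullback.lift_fst _ _ _).symm (IsPullback.of_hasPullback (D.q k) h)
  rw [pullback.lift_snd, D.comm]
  exact (IsPullback.of_hasPullback (D.π k) e).paste_vert sq

/-- Base change of a compactified cover. -/
def Pieces.baseChange (D : Pieces f) (sq : IsPullback e f' f h) : Pieces f' where
  ι := D.ι
  finite := D.finite
  P k := pullback (D.π k) e
  Q k := pullback (D.q k) h
  π k := pullback.snd (D.π k) e
  i k := pullback.lift (pullback.fst (D.π k) e ≫ D.i k) (pullback.snd (D.π k) e ≫ f') (by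
    rw [Category.assoc, D.comm, pullback.condition_assoc, sq.w, Category.assoc])
  q k := pullback.snd (D.q k) h
  proper_π k := MorphismProperty.pullback_snd _ _ inferInstance
  openImm_i k := MorphismProperty.of_isPullback (isPullback_lift D sq k) inferInstance
  proper_q k := MorphismProperty.pullback_snd _ _ inferInstance
  comm k := pullback.lift_snd _ _ _
  surj x := by
    obtain ⟨k, w, hw⟩ := D.surj (e x)
    obtain ⟨z, -, hz⟩ := exists_point_of_isPullback (IsPullback.of_hasPullback (D.π k) e) w x hw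
    exact ⟨k, z, hz⟩

theorem Pieces.lifts_baseChange (D : Pieces f) (sq : IsPullback e f' f h) (Z : Set X) (k : D.ι) :
    (D.baseChange sq).lifts (e ⁻¹' Z) k = pullback.fst (D.q k) h ⁻¹' D.lifts Z k := by
  ext b
  constructor
  · rintro ⟨z, hz, rfl⟩
    refine ⟨pullback.fst (D.π k) e z, ?_, ?_⟩
    · show D.π k (pullback.fst (D.π k) e z) ∈ Z
      rw [← Scheme.Hom.comp_apply, pullback.condition, Scheme.Hom.comp_apply]
      exact hz
    · rw [← Scheme.Hom.comp_apply, (isPullback_lift D sq k).w, Scheme.Hom.comp_apply]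
      rfl
  · rintro ⟨w, hw, hwb⟩
    obtain ⟨z, hz₁, hz₂⟩ := exists_point_of_isPullback (isPullback_lift D sq k) w b hwb
    refine ⟨z, ?_, hz₂⟩
    show e (pullback.snd (D.π k) e z) ∈ Z
    rw [← Scheme.Hom.comp_apply, ← pullback.condition, Scheme.Hom.comp_apply, hz₁]
    exact hw

/-- Finitely many jointly surjective maps with universally closed composites. -/
theorem universallyClosed_of_jointly_surjective {C U : Scheme.{u}} {κ : Type u} [Finite κ]
    {B : κ → Scheme.{u}} (a : ∀ k, B k ⟶ C) (c : C ⟶ U) (hsurj : ∀ x, ∃ k w, a k w = x)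
    [∀ k, UniversallyClosed (a k ≫ c)] : UniversallyClosed c := by
  refine ⟨fun C' U' i₁ i₂ c' hsq F hF ↦ ?_⟩
  have hk : ∀ k, IsClosed ((pullback.snd (a k) i₁ ≫ c') '' (pullback.snd (a k) i₁ ⁻¹' F)) := fun k ↦ by
    haveI : UniversallyClosed (pullback.snd (a k) i₁ ≫ c') :=
      MorphismProperty.of_isPullback ((IsPullback.of_hasPullback (a k) i₁).paste_vert hsq.flip) inferInstance
    exact (pullback.snd (a k) i₁ ≫ c').isClosedMap _ (hF.preimage (pullback.snd (a k) i₁).continuous)
  convert isClosed_iUnion_of_finite hk using 1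
  ext u
  refine ⟨?_, fun hu ↦ ?_⟩
  · rintro ⟨x, hx, rfl⟩
    obtain ⟨k, w, hw⟩ := hsurj (i₁ x)
    obtain ⟨z, -, hz⟩ := exists_point_of_isPullback (IsPullback.of_hasPullback (a k) i₁) w x hw
    exact Set.mem_iUnion.mpr ⟨k, z, show pullback.snd (a k) i₁ z ∈ F by rw [hz]; exact hx,
      by rw [Scheme.Hom.comp_apply, hz]⟩
  · obtain ⟨k, z, hz, rfl⟩ := Set.mem_iUnion.mp hu
    exact ⟨pullback.snd (a k) i₁ z, hz, (Scheme.Hom.comp_apply _ _ _).symm⟩

/-- A closed subscheme whose inverse images are closed in the compactifications is proper over the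
base. -/
theorem Pieces.isProper_comp (D : Pieces f) [IsSeparated f] [LocallyOfFiniteType f] {C : Scheme.{u}}
    (c : C ⟶ X) [IsClosedImmersion c] (hcl : ∀ k, IsClosed (D.lifts (Set.range c) k)) :
    IsProper (c ≫ f) := by
  have hk : ∀ k, UniversallyClosed (pullback.fst c (D.π k) ≫ c ≫ f) := by
    intro k
    let d := pullback.snd c (D.π k)
    haveI : IsClosedImmersion d := MorphismProperty.pullback_snd _ _ inferInstance
    haveI : IsClosedImmersion (d ≫ D.i k) := by
      refine IsClosedImmersion.of_isPreimmersion _ ?_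
      have : Set.range (d ≫ D.i k) = D.lifts (Set.range c) k := by
        refine Set.ext fun b ↦ ⟨?_, ?_⟩
        · rintro ⟨z, rfl⟩
          refine ⟨d z, ⟨pullback.fst c (D.π k) z, ?_⟩, (Scheme.Hom.comp_apply _ _ _).symm⟩
          rw [← Scheme.Hom.comp_apply, pullback.condition, Scheme.Hom.comp_apply]
        · rintro ⟨w, ⟨x, hx⟩, rfl⟩
          obtain ⟨z, -, hz⟩ := exists_point_of_isPullback (IsPullback.of_hasPullback c (D.π k)) x w hx
          exact ⟨z, by rw [Scheme.Hom.comp_apply]; exact congrArg _ hz⟩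
      rw [this]
      exact hcl k
    have h1 : pullback.fst c (D.π k) ≫ c ≫ f = (d ≫ D.i k) ≫ D.q k := by
      rw [pullback.condition_assoc, Category.assoc, D.comm]
    rw [h1]
    infer_instance
  haveI : UniversallyClosed (c ≫ f) := by
    refine universallyClosed_of_jointly_surjective (fun k ↦ pullback.fst c (D.π k)) (c ≫ f) fun x ↦ ?_
    obtain ⟨k, w, hw⟩ := D.surj (c x)
    obtain ⟨z, hz, -⟩ := exists_point_of_isPullback (IsPullback.of_hasPullback c (D.π k)) x w hw.symm
    exact ⟨k, z, hz⟩
  exact ⟨⟩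

end Groth.Agent.ProperAt
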