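import Groth.Agent.ProperAt.Henselian
import Groth.Agent.ProperAt.Pieces

/-!
# Propagation of a proper fibre component to its generisations
-/

set_option autoImplicit false

universe u

open CategoryTheory CategoryTheory.Limits AlgebraicGeometry IsLocalRing TopologicalSpace

set_option backward.isDefEq.respectTransparency false
set_option linter.style.haveILetI false

noncomputable section

namespace Groth.Agent.ProperAt

/-- The subset is closed inside the fibre over the given point. -/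
def FibClosed {X Y : Scheme.{u}} (f : X ⟶ Y) (Z : Set X) (y : Y) : Prop :=
  ∃ C : Set X, IsClosed C ∧ ∀ x, f x = y → (x ∈ C ↔ x ∈ Z)

/-- The subset is open inside the fibre over the given point. -/
def FibOpen {X Y : Scheme.{u}} (f : X ⟶ Y) (Z : Set X) (y : Y) : Prop :=
  ∃ G : Set X, IsOpen G ∧ ∀ x, f x = y → (x ∈ G ↔ x ∈ Z)

/-- The subset is preconnected in every field valued fibre at the given point. -/
def GeomPre {X Y : Scheme.{u}} (f : X ⟶ Y) (Z : Set X) (y : Y) : Prop :=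
  ∀ (K : Type u) [Field K] (X' : Scheme.{u}) (e : X' ⟶ X) (f' : X' ⟶ Spec (CommRingCat.of K))
    (v : Spec (CommRingCat.of K) ⟶ Y), IsPullback e f' f v → v (IsLocalRing.closedPoint K) = y →
    _root_.IsPreconnected (e ⁻¹' Z)

/-- After every base change the subset maps submersively onto its image. -/
def Submersive {X Y : Scheme.{u}} (f : X ⟶ Y) (Z : Set X) : Prop :=
  ∀ (X' Y' : Scheme.{u}) (e : X' ⟶ X) (f' : X' ⟶ Y') (h : Y' ⟶ Y), IsPullback e f' f h →
    ∀ E : Set Y', E ⊆ h ⁻¹' (f '' Z) →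
      (∃ W : Set X', IsOpen W ∧ W ∩ e ⁻¹' Z = f' ⁻¹' E ∩ e ⁻¹' Z) →
      ∃ V : Set Y', IsOpen V ∧ V ∩ h ⁻¹' (f '' Z) = E

variable {R : Type u} [CommRing R] {X : Scheme.{u}} (f : X ⟶ Spec (CommRingCat.of R)) (D : Pieces f)
  (Z : Set X) (p : ↥(Spec (CommRingCat.of R)))

/-- The conditions imposed at a point whose part of `Z` is proper. -/
structure GoodAt : Prop where
  closed : FibClosed f Z p
  isOpen : FibOpen f Z p
  nonempty : ∃ x ∈ Z, f x = p
  proper : ∀ k, FibClosed (D.q k) (D.lifts Z k) p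

variable {f D Z p}

/-- After a flat henselian base change at a good point everything of `Z` sits in a closed piece. -/
theorem exists_henselian_piece (hg : GoodAt f D Z p) (hpre : ∀ p', p' ⤳ p → GeomPre f Z p')
    (hsub : Submersive f Z) :
    ∃ (T : Scheme.{u}) (h : T ⟶ Spec (CommRingCat.of R)) (s : T) (W : Set ↥(pullback f h)),
      Flat h ∧ h s = p ∧ (∀ t, t ⤳ s) ∧ IsClosed W ∧
      (∀ x, pullback.snd f h x = s → x ∈ W → pullback.fst f h x ∈ Z) ∧
      pullback.fst f h ⁻¹' Z ⊆ W ∧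
      ∀ k, IsClosed ((D.baseChange (IsPullback.of_hasPullback f h)).lifts W k) := by
  obtain ⟨S, _, _, _, _, ψ, hψ, hψp⟩ := SteinGen.exists_strictly_henselian_flat R p.asIdeal
  let h : Spec (CommRingCat.of S) ⟶ Spec (CommRingCat.of R) := Spec.map (CommRingCat.ofHom ψ)
  haveI hflat : Flat h := (HasRingHomProperty.Spec_iff (P := @Flat)).mpr hψ
  let s := ZarConn.cpt S
  have hs : h s = p := PrimeSpectrum.ext hψp
  have hspec : ∀ t : ↥(Spec (CommRingCat.of S)), t ⤳ s := fun t ↦ IsLocalRing.specializes_closedPoint t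
  let e := pullback.fst f h
  let fT := pullback.snd f h
  have hef : ∀ x, f (e x) = h (fT x) := fun x ↦ by
    rw [← Scheme.Hom.comp_apply, pullback.condition, Scheme.Hom.comp_apply]
  let DT := D.baseChange (IsPullback.of_hasPullback f h)
  obtain ⟨C, hC, hCZ⟩ := hg.closed
  obtain ⟨G, hG, hGZ⟩ := hg.isOpen
  have hCfib : ∀ x, fT x = s → (x ∈ e ⁻¹' C ↔ e x ∈ Z) := fun x hx ↦
    hCZ (e x) (by rw [hef, hx, hs])
  have hcl : ∀ k, IsClosed (DT.i k '' (DT.π k ⁻¹' (e ⁻¹' C ∩ fT ⁻¹' {s}))) := by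
    intro k
    obtain ⟨Ck, hCk, hCkZ⟩ := hg.proper k
    have heq : DT.i k '' (DT.π k ⁻¹' (e ⁻¹' C ∩ fT ⁻¹' {s})) =
        pullback.fst (D.q k) h ⁻¹' Ck ∩ DT.q k ⁻¹' {s} := by
      have hq : ∀ b, DT.q k b = s → D.q k (pullback.fst (D.q k) h b) = p := fun b hb ↦ by
        rw [← Scheme.Hom.comp_apply, pullback.condition, Scheme.Hom.comp_apply]
        exact (congrArg h hb).trans hs
      refine Set.ext fun b ↦ ⟨?_, fun ⟨hb, hbs⟩ ↦ ?_⟩
      · rintro ⟨w, ⟨hwC, hws⟩, rfl⟩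
        have hws' : DT.q k (DT.i k w) = s := (DT.q_i k w).trans hws
        refine ⟨(hCkZ _ (hq _ hws')).mpr ?_, hws'⟩
        have hmem : DT.i k w ∈ DT.lifts (e ⁻¹' Z) k := ⟨w, (hCfib _ hws).mp hwC, rfl⟩
        rw [D.lifts_baseChange] at hmem
        exact hmem
      · have hmem : b ∈ DT.lifts (e ⁻¹' Z) k := by
          rw [D.lifts_baseChange]
          exact (hCkZ _ (hq b hbs)).mp hb
        obtain ⟨w, hw, rfl⟩ := hmem
        have hws : fT (DT.π k w) = s := (DT.q_i k w).symm.trans hbs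
        exact ⟨w, ⟨(hCfib _ hws).mpr hw, hws⟩, rfl⟩
    rw [heq]
    exact (hCk.preimage (pullback.fst (D.q k) h).continuous).inter
      (ZarConn.isClosed_cpt.preimage (DT.q k).continuous)
  obtain ⟨W, hW, hWs, hWk⟩ := exists_clopen_of_closed_fibre fT DT.π DT.i DT.q DT.comm DT.surj
    (e ⁻¹' C) (e ⁻¹' G) (hC.preimage e.continuous) (hG.preimage e.continuous)
    (fun x hx ↦ (hCfib x hx).trans (hGZ (e x) (by rw [hef, hx, hs])).symm) hcl
  have hrange : ∀ t, h t ⤳ p := fun t ↦ hs ▸ (hspec t).map h.continuous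
  have hpreT : ∀ t, _root_.IsPreconnected (e ⁻¹' Z ∩ fT ⁻¹' {t}) := by
    intro t
    have hsq := (IsPullback.of_hasPullback fT ((Spec (CommRingCat.of S)).fromSpecResidueField t)).paste_horiz
      (IsPullback.of_hasPullback f h)
    have := hpre (h t) (hrange t) _ _ _ _ _ hsq (by
      show h ((Spec (CommRingCat.of S)).fromSpecResidueField t _) = h t
      exact congrArg h ((Spec (CommRingCat.of S)).fromSpecResidueField_apply t _))
    have h2 := this.image (fT.fiberι t) (fT.fiberι t).continuous.continuousOn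
    convert h2 using 1
    rw [← fT.range_fiberι t]
    refine Set.ext fun x ↦ ⟨?_, ?_⟩
    · rintro ⟨hx, z, rfl⟩
      exact ⟨z, by rw [Set.mem_preimage, Scheme.Hom.comp_apply]; exact hx, rfl⟩
    · rintro ⟨z, hz, rfl⟩
      rw [Set.mem_preimage, Scheme.Hom.comp_apply] at hz
      exact ⟨hz, z, rfl⟩
  have hin : ∀ x x₁, e x ∈ Z → e x₁ ∈ Z → fT x = fT x₁ → x₁ ∈ W → x ∈ W := fun x x₁ hx hx₁ hxx hW₁ ↦
    (hpreT (fT x₁)).subset_isClopen hW ⟨x₁, ⟨hx₁, rfl⟩, hW₁⟩ ⟨hx, hxx⟩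
  let E := fT '' (e ⁻¹' Z ∩ W)
  have hE : E ⊆ h ⁻¹' (f '' Z) := by
    rintro _ ⟨x, ⟨hx, -⟩, rfl⟩
    exact ⟨e x, hx, hef x⟩
  obtain ⟨V, hV, hVE⟩ := hsub _ _ e fT h (IsPullback.of_hasPullback f h) E hE ⟨W, hW.2, by
    refine Set.ext fun x ↦ ⟨fun ⟨hxW, hxZ⟩ ↦ ⟨⟨x, ⟨hxZ, hxW⟩, rfl⟩, hxZ⟩, ?_⟩
    rintro ⟨⟨x₁, ⟨hx₁, hW₁⟩, hxx⟩, hxZ⟩
    exact ⟨hin x x₁ hxZ hx₁ hxx.symm hW₁, hxZ⟩⟩
  have hsV : s ∈ V := by
    obtain ⟨z, hz, hzp⟩ := hg.nonempty
    obtain ⟨x, hxz, hxs⟩ := exists_point_of_isPullback (IsPullback.of_hasPullback f h) z s (hzp.trans hs.symm)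
    have hxW : x ∈ W := (hWs.ge ⟨(hCfib x hxs).mpr (show e x ∈ Z by rw [hxz]; exact hz), hxs⟩).1
    exact (hVE.ge ⟨x, ⟨show e x ∈ Z by rw [hxz]; exact hz, hxW⟩, hxs⟩).1
  refine ⟨_, h, s, W, hflat, hs, hspec, hW.1,
    fun x hx hxW ↦ (hCfib x hx).mp (hWs.le ⟨hxW, hx⟩).1, fun x hx ↦ ?_, hWk⟩
  obtain ⟨x₁, ⟨hx₁, hW₁⟩, hxx⟩ := hVE.le ⟨(hspec (fT x)).mem_open hV hsV, ⟨e x, hx, hef x⟩⟩
  exact hin x x₁ hx hx₁ hxx.symm hW₁

/-- Specializations inside the compactification of lifts of `Z` which lie over generisations of a good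
point come from the cover. -/
theorem mem_range_of_specializes (hg : GoodAt f D Z p) (hpre : ∀ p', p' ⤳ p → GeomPre f Z p')
    (hsub : Submersive f Z) (k : D.ι) {u b : D.Q k} (hu : u ∈ D.lifts Z k) (hub : u ⤳ b)
    (hb : D.q k b ⤳ p) : b ∈ Set.range (D.i k) := by
  obtain ⟨T, h, s, W, _, hs, -, -, -, hZW, hWk⟩ := exists_henselian_piece hg hpre hsub
  obtain ⟨t, -, ht⟩ := Flat.generalizingMap h (show D.q k b ⤳ h s by rwa [hs])
  obtain ⟨b', hb', -⟩ := Scheme.Pullback.exists_preimage_pullback (f := D.q k) (g := h) b t ht.symm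
  subst hb'
  obtain ⟨u', hu', rfl⟩ := Flat.generalizingMap (pullback.fst (D.q k) h) hub
  let DT := D.baseChange (IsPullback.of_hasPullback f h)
  have hmem : u' ∈ DT.lifts (pullback.fst f h ⁻¹' Z) k := by
    rw [D.lifts_baseChange]
    exact hu
  obtain ⟨w, -, rfl⟩ := hu'.mem_closed (hWk k) (Set.image_mono (Set.preimage_mono hZW) hmem)
  refine ⟨pullback.fst (D.π k) (pullback.fst f h) w, ?_⟩
  rw [← Scheme.Hom.comp_apply, (isPullback_lift D (IsPullback.of_hasPullback f h) k).w, Scheme.Hom.comp_apply]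
  rfl

/-- `Z` is stable under specializations into the fibre of a good point. -/
theorem mem_of_specializes (hg : GoodAt f D Z p) (hpre : ∀ p', p' ⤳ p → GeomPre f Z p')
    (hsub : Submersive f Z) {x x' : X} (hx : x ∈ Z) (hxx : x ⤳ x') (hx' : f x' = p) : x' ∈ Z := by
  obtain ⟨T, h, s, W, _, hs, -, hW, hWs, hZW, -⟩ := exists_henselian_piece hg hpre hsub
  obtain ⟨a', rfl, ha'⟩ := Scheme.Pullback.exists_preimage_pullback (f := f) (g := h) x' s (hx'.trans hs.symm)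
  obtain ⟨a, haa, rfl⟩ := Flat.generalizingMap (pullback.fst f h) hxx
  exact hWs a' ha' (haa.mem_closed hW (hZW hx))

end Groth.Agent.ProperAt
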