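import Groth.Agent.ProperAt.Spread
import Groth.Agent.Chow.Strata

/-!
# A proper fibre component stays proper over a neighbourhood
-/

set_option autoImplicit false

universe u

open CategoryTheory CategoryTheory.Limits AlgebraicGeometry Topology TopologicalSpace

set_option backward.isDefEq.respectTransparency false
set_option linter.style.haveILetI false

noncomputable section

namespace Groth.Agent.ProperAt

/-- Properness of an open part of the fibre gives closedness of its lifts in the fibre. -/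
theorem Pieces.fibClosed_of_isProper {X S Xy K : Scheme.{u}} {f : X ⟶ S} (D : Pieces f) {e : Xy ⟶ X}
    {f₀ : Xy ⟶ K} {v : K ⟶ S} (sq : IsPullback e f₀ f v) [IsPreimmersion v] {p : S}
    (hv : Set.range v = {p}) (Z : Set X) (O : Xy.Opens) (hO : (O : Set Xy) = e ⁻¹' Z)
    [IsProper (O.ι ≫ f₀)] (k : D.ι) : FibClosed (D.q k) (D.lifts Z k) p := by
  let DT := D.baseChange sq
  let j := (DT.π k ⁻¹ᵁ O).ι ≫ DT.i k
  haveI : IsProper (j ≫ DT.q k) := by
    have h1 : j ≫ DT.q k = (DT.π k ∣_ O) ≫ O.ι ≫ f₀ := by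
      rw [morphismRestrict_ι_assoc, Category.assoc, DT.comm]
    rw [h1]
    infer_instance
  haveI : IsProper j := IsProper.of_comp j (DT.q k)
  have hr : Set.range j = pullback.fst (D.q k) v ⁻¹' D.lifts Z k := by
    rw [← D.lifts_baseChange sq, ← hO]
    refine Set.ext fun b ↦ ⟨?_, ?_⟩
    · rintro ⟨w, rfl⟩
      exact ⟨w.1, w.2, rfl⟩
    · rintro ⟨w, hw, rfl⟩
      exact ⟨⟨w, hw⟩, rfl⟩
  have hcl : IsClosed (pullback.fst (D.q k) v ⁻¹' D.lifts Z k) := hr ▸ j.isClosedMap.isClosed_range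
  haveI : IsPreimmersion (pullback.fst (D.q k) v) :=
    MorphismProperty.of_isPullback (IsPullback.of_hasPullback (D.q k) v).flip inferInstance
  obtain ⟨C, hC, hCe⟩ := (pullback.fst (D.q k) v).isEmbedding.isInducing.isClosed_iff.mp hcl
  refine ⟨C, hC, fun b hb ↦ ?_⟩
  obtain ⟨t, ht⟩ : p ∈ Set.range v := by rw [hv]; rfl
  obtain ⟨z, rfl, -⟩ := Scheme.Pullback.exists_preimage_pullback (f := D.q k) (g := v) b t (hb.trans ht.symm)
  exact Set.ext_iff.mp hCe z

/-- Chow's lemma as a compactified cover. -/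
theorem exists_pieces {R : Type u} [CommRing R] {X : Scheme.{u}} (f : X ⟶ Spec (CommRingCat.of R))
    [IsSeparated f] [LocallyOfFiniteType f] [CompactSpace X] [QuasiSeparatedSpace X] :
    Nonempty (Pieces f) := by
  obtain ⟨ι, hfin, N, P, π, j, hj, hjf, hπ, hs⟩ := Chow.exists_chow_cover f
  haveI : ∀ k, IsProper (CohB1.ProjSpaceOver.toBase (N k) (Spec (CommRingCat.of R))) :=
    fun k ↦ Chow.isProper_toBase _ _
  haveI : ∀ k, QuasiCompact (j k) := fun k ↦ by
    haveI := hπ k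
    haveI : CompactSpace (P k) := QuasiCompact.compactSpace_of_compactSpace (π k)
    haveI : QuasiCompact (j k ≫ CohB1.ProjSpaceOver.toBase (N k) _) :=
      (quasiCompact_iff_compactSpace _).mpr inferInstance
    exact MorphismProperty.of_postcomp (W := @QuasiCompact) (W' := @QuasiSeparated) (j k)
      (CohB1.ProjSpaceOver.toBase (N k) (Spec (CommRingCat.of R))) inferInstance inferInstance
  exact ⟨{
    ι := ι
    finite := hfin
    P := P
    Q := fun k ↦ (j k).image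
    π := π
    i := fun k ↦ (j k).toImage
    q := fun k ↦ (j k).imageι ≫ CohB1.ProjSpaceOver.toBase (N k) _
    proper_π := hπ
    openImm_i := fun k ↦ by haveI := hj k; infer_instance
    proper_q := fun k ↦ inferInstance
    comm := fun k ↦ by rw [Scheme.Hom.toImage_imageι_assoc, hjf k]
    surj := hs }⟩

/-- A locally constructible subset which is, over the generisations of a point, a geometrically connected
open and closed piece of each fibre, submersive onto its image and proper over the point, is proper over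
a neighbourhood of the point. -/
theorem exists_proper_nhd {X Y : Scheme.{u}} (f : X ⟶ Y) [IsSeparated f] [LocallyOfFiniteType f]
    [QuasiCompact f] (Z : Set X) (hZ : IsLocallyConstructible Z) (y : Y)
    (hclosed : ∀ y', y' ⤳ y → FibClosed f Z y') (hopen : ∀ y', y' ⤳ y → FibOpen f Z y')
    (hne : ∀ y', y' ⤳ y → ∃ x ∈ Z, f x = y') (hpre : ∀ y', y' ⤳ y → GeomPre f Z y')
    (hsub : Submersive f Z) (hop : IsOpen ((f.fiberι y).base ⁻¹' Z))
    (hprop : IsProper (Scheme.Opens.ι (⟨(f.fiberι y).base ⁻¹' Z, hop⟩ : (f.fiber y).Opens) ≫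
      f.fiberToSpecResidueField y)) :
    ∃ U : Y.Opens, y ∈ U ∧ ∃ hC : IsClosed ((f ⁻¹ᵁ U).ι.base ⁻¹' Z),
      IsProper ((Scheme.IdealSheafData.vanishingIdeal (⟨(f ⁻¹ᵁ U).ι.base ⁻¹' Z, hC⟩ :
        Closeds ↥(f ⁻¹ᵁ U))).subschemeι ≫ (f ∣_ U)) := by
  obtain ⟨V, hV, hyV, -⟩ := exists_isAffineOpen_mem_and_subset (x := y) (U := (⊤ : Y.Opens)) trivial
  let R := Γ(Y, V)
  let v : Spec (CommRingCat.of R) ⟶ Y := hV.fromSpec
  haveI : IsOpenImmersion v := hV.isOpenImmersion_fromSpec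
  let f' : (f ⁻¹ᵁ V).toScheme ⟶ Spec (CommRingCat.of R) := f ∣_ V ≫ hV.isoSpec.hom
  let e := (f ⁻¹ᵁ V).ι
  have sq : IsPullback e f' f v :=
    (isPullback_morphismRestrict f V).flip.of_iso (Iso.refl _) (Iso.refl _) hV.isoSpec (Iso.refl _)
      (by simp [e]) (by simp [f']) (by simp) (by simp [v, hV.isoSpec_hom_fromSpec])
  haveI : IsSeparated f' := MorphismProperty.of_isPullback sq inferInstance
  haveI : LocallyOfFiniteType f' := MorphismProperty.of_isPullback sq inferInstance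
  haveI : QuasiCompact f' := MorphismProperty.of_isPullback sq inferInstance
  haveI : CompactSpace (f ⁻¹ᵁ V).toScheme := QuasiCompact.compactSpace_of_compactSpace f'
  haveI : QuasiSeparatedSpace (f ⁻¹ᵁ V).toScheme := quasiSeparatedSpace_of_quasiSeparated f'
  have hev : ∀ x, f (e x) = v (f' x) := fun x ↦ by
    rw [← Scheme.Hom.comp_apply, sq.w, Scheme.Hom.comp_apply]
  obtain ⟨p, hp⟩ : y ∈ Set.range v := by rw [show Set.range v = (V : Set Y) from hV.range_fromSpec]; exact hyV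
  subst hp
  have hgen : ∀ p' : ↥(Spec (CommRingCat.of R)), p' ⤳ p → v p' ⤳ v p := fun p' h ↦ h.map v.continuous
  have hfib : ∀ (p' : ↥(Spec (CommRingCat.of R))) x, f' x = p' → f (e x) = v p' := fun p' x hx ↦ by
    rw [hev, hx]
  have H : Hyp f' (e ⁻¹' Z) p := by
    refine ⟨fun p' h ↦ ?_, fun p' h ↦ ?_, fun p' h ↦ ?_, fun p' h ↦ ?_⟩
    · obtain ⟨C, hC, hCZ⟩ := hclosed _ (hgen p' h)
      exact ⟨e ⁻¹' C, hC.preimage e.continuous, fun x hx ↦ hCZ _ (hfib p' x hx)⟩
    · obtain ⟨G, hG, hGZ⟩ := hopen _ (hgen p' h)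
      exact ⟨e ⁻¹' G, hG.preimage e.continuous, fun x hx ↦ hGZ _ (hfib p' x hx)⟩
    · obtain ⟨z, hz, hzp⟩ := hne _ (hgen p' h)
      obtain ⟨x, rfl, hx⟩ := exists_point_of_isPullback sq z p' hzp
      exact ⟨x, hz, hx⟩
    · intro K _ X' e' g w hsq hw
      exact hpre _ (hgen p' h) K X' (e' ≫ e) g (w ≫ v) (hsq.paste_horiz sq)
        (by rw [Scheme.Hom.comp_apply, hw])
  have hsub' : Submersive f' (e ⁻¹' Z) := by
    intro X' Y' e' g h hsq E hE hW
    have heq : (h ≫ v) ⁻¹' (f '' Z) = h ⁻¹' (f' '' (e ⁻¹' Z)) := by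
      refine Set.ext fun t ↦ ⟨?_, ?_⟩
      · rintro ⟨z, hz, hzt⟩
        obtain ⟨x, rfl, hx⟩ := exists_point_of_isPullback sq z (h t) (hzt.trans (Scheme.Hom.comp_apply _ _ _))
        exact ⟨x, hz, hx⟩
      · rintro ⟨x, hx, hxt⟩
        exact ⟨e x, hx, by rw [hev, hxt]; rfl⟩
    obtain ⟨W, hW, hWe⟩ := hsub _ _ (e' ≫ e) g (h ≫ v) (hsq.paste_horiz sq) E (heq.symm ▸ hE) hW
    exact ⟨W, hW, by rw [← heq]; exact hWe⟩
  obtain ⟨D⟩ := exists_pieces f'
  -- the fibre over the point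
  have hrK : Set.range (Y.fromSpecResidueField (v p)) = {v p} := Scheme.range_fromSpecResidueField (v p)
  let v₀ := IsOpenImmersion.lift v (Y.fromSpecResidueField (v p)) (by
    rw [hrK, Set.singleton_subset_iff]; exact ⟨p, rfl⟩)
  have hv₀ : v₀ ≫ v = Y.fromSpecResidueField (v p) := IsOpenImmersion.lift_fac _ _ _
  let e₀ : f.fiber (v p) ⟶ (f ⁻¹ᵁ V).toScheme := sq.lift (f.fiberι (v p))
    (f.fiberToSpecResidueField (v p) ≫ v₀) (by rw [Category.assoc, hv₀]; exact pullback.condition)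
  have sq₀ : IsPullback e₀ (f.fiberToSpecResidueField (v p)) f' v₀ :=
    IsPullback.of_right (by rw [hv₀, sq.lift_fst]; exact IsPullback.of_hasPullback _ _) (sq.lift_snd _ _ _) sq
  haveI : IsPreimmersion v₀ := by
    haveI : IsPreimmersion (v₀ ≫ v) := by rw [hv₀]; infer_instance
    exact IsPreimmersion.of_comp v₀ v
  have hv₀r : Set.range v₀ = {p} := by
    refine Set.eq_singleton_iff_unique_mem.mpr ⟨?_, ?_⟩
    · obtain ⟨t, ht⟩ : v p ∈ Set.range (Y.fromSpecResidueField (v p)) := hrK.ge rfl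
      exact ⟨t, v.isOpenEmbedding.injective (by rw [← Scheme.Hom.comp_apply, hv₀, ht])⟩
    · rintro _ ⟨t, rfl⟩
      exact v.isOpenEmbedding.injective (by
        rw [← Scheme.Hom.comp_apply, hv₀]; exact hrK.le ⟨t, rfl⟩)
  have he₀ : e₀ ⁻¹' (e ⁻¹' Z) = f.fiberι (v p) ⁻¹' Z := by
    refine Set.ext fun x ↦ ?_
    rw [Set.mem_preimage, Set.mem_preimage, Set.mem_preimage, ← Scheme.Hom.comp_apply, sq.lift_fst]
  haveI := hprop
  have hpk := fun k ↦ D.fibClosed_of_isProper sq₀ hv₀r (e ⁻¹' Z) ⟨_, hop⟩ he₀.symm k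
  obtain ⟨U', hpU, hcl, hclk⟩ := exists_nhd_closed D (hZ.preimage_of_isOpenEmbedding e.isOpenEmbedding) H hsub' hpk
  let U : Y.Opens := v ''ᵁ U'
  refine ⟨U, ⟨p, hpU, rfl⟩, ?_⟩
  let u := IsOpenImmersion.lift v U.ι (by
    rintro _ ⟨t, rfl⟩
    obtain ⟨t', -, ht'⟩ := t.2
    exact ⟨t', ht'⟩)
  have hu : u ≫ v = U.ι := IsOpenImmersion.lift_fac _ _ _
  have huU : ∀ t, u t ∈ U' := fun t ↦ by
    obtain ⟨t', ht', htt⟩ := t.2
    have : v (u t) = v t' := by rw [← Scheme.Hom.comp_apply, hu]; exact htt.symm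
    rw [v.isOpenEmbedding.injective this]
    exact ht'
  let g := sq.lift (f ⁻¹ᵁ U).ι (f ∣_ U ≫ u) (by rw [Category.assoc, hu, morphismRestrict_ι])
  have sq₂ : IsPullback g (f ∣_ U) f' u := by
    refine IsPullback.of_right ?_ (sq.lift_snd _ _ _) sq
    rw [hu, sq.lift_fst]
    exact (isPullback_morphismRestrict f U).flip
  have hg : g ⁻¹' (e ⁻¹' Z) = (f ⁻¹ᵁ U).ι ⁻¹' Z := by
    refine Set.ext fun x ↦ ?_
    rw [Set.mem_preimage, Set.mem_preimage, Set.mem_preimage, ← Scheme.Hom.comp_apply, sq.lift_fst]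
  have hC : IsClosed ((f ⁻¹ᵁ U).ι ⁻¹' Z) := by
    rw [← hg]
    refine isClosed_of_closure_subset fun x hx ↦ hcl _ ?_ ?_
    · exact g.continuous.closure_preimage_subset _ hx
    · rw [← Scheme.Hom.comp_apply, sq₂.w, Scheme.Hom.comp_apply]
      exact huU _
  refine ⟨hC, ?_⟩
  refine (D.baseChange sq₂).isProper_comp _ fun k ↦ ?_
  rw [Scheme.IdealSheafData.range_subschemeι, Scheme.IdealSheafData.coe_support_vanishingIdeal]
  show IsClosed ((D.baseChange sq₂).lifts ((f ⁻¹ᵁ U).ι ⁻¹' Z) k)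
  rw [← hg, D.lifts_baseChange]
  refine isClosed_of_closure_subset fun b hb ↦ hclk k _ ?_ ?_
  · exact (pullback.fst (D.q k) u).continuous.closure_preimage_subset _ hb
  · rw [← Scheme.Hom.comp_apply, pullback.condition, Scheme.Hom.comp_apply]
    exact huU _

end Groth.Agent.ProperAt
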