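import Groth.Agent.ProperAt.Local
import Groth.Agent.ProperAt.Cons

/-!
# Spreading a proper fibre component to a neighbourhood
-/

set_option autoImplicit false

universe u

open CategoryTheory CategoryTheory.Limits AlgebraicGeometry Topology TopologicalSpace

set_option backward.isDefEq.respectTransparency false
set_option linter.style.haveILetI false

noncomputable section

namespace Groth.Agent.ProperAt

variable {R : Type u} [CommRing R] {X : Scheme.{u}} {f : X ⟶ Spec (CommRingCat.of R)} (D : Pieces f)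
  {Z : Set X}

theorem Pieces.compactSpace_Q (k : D.ι) : CompactSpace (D.Q k) :=
  QuasiCompact.compactSpace_of_compactSpace (D.q k)

theorem Pieces.quasiSeparatedSpace_Q (k : D.ι) : QuasiSeparatedSpace (D.Q k) :=
  quasiSeparatedSpace_of_quasiSeparated (D.q k)

/-- Lifts of constructible subsets are closed for the constructible topology. -/
theorem Pieces.isClosed_cons_lifts [CompactSpace X] [QuasiSeparatedSpace X]
    (hZ : IsLocallyConstructible Z) (k : D.ι) :
    IsClosed[constructibleTopology (D.Q k)] (D.lifts Z k) := by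
  haveI := D.compactSpace_Q k
  haveI := D.quasiSeparatedSpace_Q k
  haveI : CompactSpace (D.P k) := QuasiCompact.compactSpace_of_compactSpace (D.π k)
  have h := ConsTop.isClopen_of_isLocallyConstructible hZ
  have hc : @Continuous (D.P k) X (constructibleTopology _) (constructibleTopology _) (D.π k) :=
    ConsTop.continuous_cons _ (D.π k).continuous fun U hU hUc ↦ (D.π k).isCompact_preimage (U := ⟨U, hU⟩) hUc
  refine (@isOpen_compl_iff (D.Q k) _ (constructibleTopology _)).mp ?_
  have heq : (D.lifts Z k)ᶜ = (Set.range (D.i k))ᶜ ∪ D.i k '' (D.π k ⁻¹' Zᶜ) := by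
    refine Set.ext fun b ↦ ⟨fun hb ↦ ?_, ?_⟩
    · by_cases hbr : b ∈ Set.range (D.i k)
      · obtain ⟨w, rfl⟩ := hbr
        exact Or.inr ⟨w, fun hw ↦ hb ⟨w, hw, rfl⟩, rfl⟩
      · exact Or.inl hbr
    · rintro (hb | ⟨w, hw, rfl⟩) ⟨w', hw', hww⟩
      · exact hb ⟨w', hww⟩
      · rw [(D.i k).isOpenEmbedding.injective hww] at hw'
        exact hw hw'
  rw [heq]
  refine @IsOpen.union _ _ _ (constructibleTopology _) (ConsTop.isOpen_compl_of_isCompact
    (D.i k).isOpenEmbedding.isOpen_range (isCompact_range (D.i k).continuous)) ?_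
  exact ConsTop.isOpen_image_cons (D.i k).isOpenEmbedding (@IsOpen.preimage (D.P k) X (constructibleTopology _) (constructibleTopology _) _ hc _ h.2)

/-- Hypotheses on `Z` at every generisation of a point. -/
structure Hyp (f : X ⟶ Spec (CommRingCat.of R)) (Z : Set X) (p : ↥(Spec (CommRingCat.of R))) : Prop where
  closed : ∀ p', p' ⤳ p → FibClosed f Z p'
  isOpen : ∀ p', p' ⤳ p → FibOpen f Z p'
  nonempty : ∀ p', p' ⤳ p → ∃ x ∈ Z, f x = p'
  pre : ∀ p', p' ⤳ p → GeomPre f Z p'

/-- Properness of the part of `Z` over a point propagates to the generisations. -/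
theorem goodAt_of_specializes [CompactSpace X] [QuasiSeparatedSpace X] (hZ : IsLocallyConstructible Z)
    {p : ↥(Spec (CommRingCat.of R))} (H : Hyp f Z p) (hsub : Submersive f Z)
    (hp : ∀ k, FibClosed (D.q k) (D.lifts Z k) p) {p' : ↥(Spec (CommRingCat.of R))} (hpp : p' ⤳ p) :
    GoodAt f D Z p' := by
  have hg : GoodAt f D Z p := ⟨H.closed p specializes_rfl, H.isOpen p specializes_rfl,
    H.nonempty p specializes_rfl, hp⟩
  refine ⟨H.closed p' hpp, H.isOpen p' hpp, H.nonempty p' hpp, fun k ↦ ?_⟩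
  haveI := D.compactSpace_Q k
  haveI := D.quasiSeparatedSpace_Q k
  refine ⟨closure (D.lifts Z k ∩ D.q k ⁻¹' {p'}), isClosed_closure,
    fun b hb ↦ ⟨fun hbc ↦ ?_, fun h ↦ subset_closure ⟨h, hb⟩⟩⟩
  obtain ⟨u, ⟨hu, hup⟩, hub⟩ := exists_specializes_of_mem_closure_self
    (@IsClosed.inter _ _ _ (constructibleTopology _) (D.isClosed_cons_lifts hZ k)
      (isClosed_cons_fibre (D.q k) (D.q k).continuous
        (fun U hU hUc ↦ (D.q k).isCompact_preimage (U := ⟨U, hU⟩) hUc) p')) hbc
  obtain ⟨w', rfl⟩ := mem_range_of_specializes hg H.pre hsub k hu hub (hb ▸ hpp)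
  obtain ⟨w, hw, rfl⟩ := hu
  obtain ⟨C, hC, hCZ⟩ := H.closed p' hpp
  have hww : D.π k w ⤳ D.π k w' :=
    ((D.i k).isOpenEmbedding.isInducing.specializes_iff.mp hub).map (D.π k).continuous
  exact ⟨w', (hCZ _ ((D.q_i k w').symm.trans hb)).mp
    (hww.mem_closed hC ((hCZ _ ((D.q_i k w).symm.trans hup)).mpr hw)), rfl⟩

/-- Over a neighbourhood `Z` is closed, and so are its lifts to the compactifications. -/
theorem exists_nhd_closed [CompactSpace X] [QuasiSeparatedSpace X] (hZ : IsLocallyConstructible Z)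
    {p : ↥(Spec (CommRingCat.of R))} (H : Hyp f Z p) (hsub : Submersive f Z)
    (hp : ∀ k, FibClosed (D.q k) (D.lifts Z k) p) :
    ∃ U : (Spec (CommRingCat.of R)).Opens, p ∈ U ∧ (∀ x ∈ closure Z, f x ∈ U → x ∈ Z) ∧
      ∀ k, ∀ b ∈ closure (D.lifts Z k), D.q k b ∈ U → b ∈ D.lifts Z k := by
  let B : ∀ k, Set (D.Q k) := fun k ↦ closure (D.lifts Z k) ∩ (D.lifts Z k)ᶜ
  have hB : ∀ k, p ∉ closure (D.q k '' B k) := by
    intro k hk
    haveI := D.compactSpace_Q k
    haveI := D.quasiSeparatedSpace_Q k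
    have hcons : IsClosed[constructibleTopology (D.Q k)] (D.lifts Z k)ᶜ := by
      refine (@isOpen_compl_iff _ _ (constructibleTopology _)).mp ?_
      rw [compl_compl]
      haveI : CompactSpace (D.P k) := QuasiCompact.compactSpace_of_compactSpace (D.π k)
      exact ConsTop.isOpen_image_cons (D.i k).isOpenEmbedding
        (@IsOpen.preimage (D.P k) X (constructibleTopology _) (constructibleTopology _) _
          (ConsTop.continuous_cons _ (D.π k).continuous fun U hU hUc ↦
            (D.π k).isCompact_preimage (U := ⟨U, hU⟩) hUc) _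
          (ConsTop.isClopen_of_isLocallyConstructible hZ).1)
    obtain ⟨b, ⟨hb, hbn⟩, hbp⟩ := exists_specializes_of_mem_closure (D.q k) (D.q k).continuous
      (fun U hU hUc ↦ (D.q k).isCompact_preimage (U := ⟨U, hU⟩) hUc)
      (@IsClosed.inter _ _ _ (constructibleTopology _) (isClosed_cons isClosed_closure) hcons) hk
    obtain ⟨u, hu, hub⟩ := exists_specializes_of_mem_closure_self (D.isClosed_cons_lifts hZ k) hb
    have hg := goodAt_of_specializes D hZ H hsub hp hbp
    have hpre : ∀ p', p' ⤳ D.q k b → GeomPre f Z p' := fun p' hp' ↦ H.pre p' (hp'.trans hbp)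
    obtain ⟨w', rfl⟩ := mem_range_of_specializes hg hpre hsub k hu hub specializes_rfl
    obtain ⟨w, hw, rfl⟩ := hu
    exact hbn ⟨w', mem_of_specializes hg hpre hsub hw
      (((D.i k).isOpenEmbedding.isInducing.specializes_iff.mp hub).map (D.π k).continuous)
      (D.q_i k w').symm, rfl⟩
  let U : (Spec (CommRingCat.of R)).Opens :=
    ⟨(⋃ k, closure (D.q k '' B k))ᶜ, (isClosed_iUnion_of_finite fun _ ↦ isClosed_closure).isOpen_compl⟩
  have hU : ∀ k, ∀ b ∈ closure (D.lifts Z k), D.q k b ∈ U → b ∈ D.lifts Z k := by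
    intro k b hb hbU
    by_contra h
    exact hbU (Set.mem_iUnion.mpr ⟨k, subset_closure ⟨b, ⟨hb, h⟩, rfl⟩⟩)
  refine ⟨U, fun h ↦ ?_, fun x hx hxU ↦ ?_, hU⟩
  · obtain ⟨k, hk⟩ := Set.mem_iUnion.mp h
    exact hB k hk
  · have hsub' : closure Z ⊆ ⋃ k, D.π k '' closure (D.π k ⁻¹' Z) :=
      closure_minimal (fun z hz ↦ by
        obtain ⟨k, w, rfl⟩ := D.surj z
        exact Set.mem_iUnion.mpr ⟨k, w, subset_closure hz, rfl⟩)
        (isClosed_iUnion_of_finite fun k ↦ (D.π k).isClosedMap _ isClosed_closure)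
    obtain ⟨k, w, hw, rfl⟩ := Set.mem_iUnion.mp (hsub' hx)
    have hiw : D.i k w ∈ closure (D.lifts Z k) :=
      image_closure_subset_closure_image (D.i k).continuous ⟨w, hw, rfl⟩
    obtain ⟨w', hw', hww⟩ := hU k _ hiw (by rw [D.q_i]; exact hxU)
    rw [(D.i k).isOpenEmbedding.injective hww] at hw'
    exact hw'

end Groth.Agent.ProperAt
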